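import Groth.Prelude.Def_Red
import Groth.Agent.Lib.GeomConn.Geometric

/-! Equality of morphisms to a separated unramified scheme along connected fibres. -/

set_option autoImplicit false
universe u
open CategoryTheory CategoryTheory.Limits AlgebraicGeometry

namespace Groth.Agent.H83.ClopenEq

/-- Connected geometric fibres give a geometrically connected morphism. -/
theorem geometricallyConnected_of_geomFibre {X Y : Scheme.{u}} (f : X ⟶ Y)
    (h : ∀ y : Y, ConnectedSpace ↥(Red.geomFibre y (Over.mk f)).left) :
    GeometricallyConnected f := by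
  rw [GeometricallyConnected.iff_geometricallyConnected_fiber]
  intro y
  let _ : (f.fiber y).Over (Spec (CommRingCat.of (Y.residueField y))) :=
    ⟨f.fiberToSpecResidueField y⟩
  change GeometricallyConnected (f.fiber y ↘ Spec (CommRingCat.of (Y.residueField y)))
  rw [Groth.Agent.Lib.GeomConn.Geometric.geometricallyConnected_iff_sepClosure]
  let Ω := AlgebraicClosure (Y.residueField y)
  have hΩ : ConnectedSpace (Curv2.bc (Y.residueField y) (f.fiber y) Ω) := by
    have e := pullbackLeftPullbackSndIso f (Y.fromSpecResidueField y)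
      (Spec.map (CommRingCat.ofHom (algebraMap (Y.residueField y) Ω)))
    exact (e.hom.homeomorph.connectedSpace_iff).2 (h y)
  exact Groth.Agent.Lib.GeomConn.Geometric.connectedSpace_bc_of_tower _ _ _ Ω

/-- Two morphisms to a separated unramified `S`-scheme agree if they agree on a section of a
morphism with connected fibres. -/
theorem eq_of_connected_fibres {R M C S : Scheme.{u}} (p : R ⟶ M) (d : M ⟶ R)
    (hd : d ≫ p = 𝟙 M) (π : C ⟶ S) [IsSeparated π] [FormallyUnramified π] [LocallyOfFiniteType π]
    (a b : R ⟶ C) (hab : a ≫ π = b ≫ π) (he : d ≫ a = d ≫ b)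
    (hp : ∀ m : M, _root_.IsConnected (p ⁻¹' {m})) : a = b := by
  let c : R ⟶ pullback π π := pullback.lift a b hab
  have hdc : d ≫ c = (d ≫ a) ≫ pullback.diagonal π := by
    apply pullback.hom_ext
    · rw [Category.assoc, Category.assoc, pullback.lift_fst, pullback.diagonal_fst, Category.comp_id]
    · rw [Category.assoc, Category.assoc, pullback.lift_snd, pullback.diagonal_snd, Category.comp_id, he]
  let U : Set R := c ⁻¹' Set.range (pullback.diagonal π)
  have hU : IsClopen U := by
    refine ⟨?_, ?_⟩
    · exact (Scheme.Hom.isClosedEmbedding (pullback.diagonal π)).isClosed_range.preimage c.continuous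
    · exact (pullback.diagonal π).isOpenEmbedding.isOpen_range.preimage c.continuous
  have hall : ∀ r : R, r ∈ U := by
    intro r
    have hpd : p (d (p r)) = p r := by
      rw [← Scheme.Hom.comp_apply, hd]; rfl
    have hdU : d (p r) ∈ U := by
      refine ⟨(d ≫ a) (p r), ?_⟩
      rw [← Scheme.Hom.comp_apply, ← hdc, Scheme.Hom.comp_apply]
    exact (hp (p r)).isPreconnected.subset_isClopen hU ⟨d (p r), hpd, hdU⟩ rfl
  have hrange : Set.range c ⊆ Set.range (pullback.diagonal π) := by
    rintro _ ⟨r, rfl⟩; exact hall r
  obtain ⟨l, hl⟩ : ∃ l : R ⟶ C, l ≫ pullback.diagonal π = c :=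
    ⟨IsOpenImmersion.lift _ c hrange, IsOpenImmersion.lift_fac _ c hrange⟩
  calc a = c ≫ pullback.fst π π := (pullback.lift_fst a b hab).symm
    _ = c ≫ pullback.snd π π := by rw [← hl]; simp
    _ = b := pullback.lift_snd a b hab

end Groth.Agent.H83.ClopenEq
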