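import Mathlib.RingTheory.Etale.Basic
import Mathlib.RingTheory.Etale.Locus
import Mathlib.RingTheory.Kaehler.JacobiZariski
import Mathlib.RingTheory.Kaehler.Polynomial
import Mathlib.RingTheory.Smooth.Locus
import Mathlib.RingTheory.Smooth.Local

/-! Formally etale criterion via the Jacobian isomorphism. -/

set_option autoImplicit false
universe u

open TensorProduct KaehlerDifferential

namespace Groth.Agent.H83.EtaleCriterion

theorem formallyEtale_of_bijective (k P S : Type u) [CommRing k] [CommRing P] [CommRing S]
    [Algebra k P] [Algebra P S] [Algebra k S] [IsScalarTower k P S] [Algebra.FormallySmooth k S]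
    (h : Function.Bijective (mapBaseChange k P S)) : Algebra.FormallyEtale P S := by
  refine ⟨?_, ?_⟩
  · refine ⟨fun x y ↦ ?_⟩
    have key : ∀ x : Ω[S⁄P], x = 0 := fun x ↦ by
      obtain ⟨y, rfl⟩ := map_surjective k P S x
      obtain ⟨z, rfl⟩ := h.2 y
      exact (exact_mapBaseChange_map k P S).apply_apply_eq_zero z
    rw [key x, key y]
  · have h2 : ∀ x : Algebra.H1Cotangent P S, x = 0 := fun x ↦ by
      have h0 : Algebra.H1Cotangent.δ k P S x = 0 :=
        h.1 (by rw [(Algebra.H1Cotangent.exact_δ_mapBaseChange k P S).apply_apply_eq_zero, map_zero])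
      obtain ⟨y, rfl⟩ := (Algebra.H1Cotangent.exact_map_δ k P S x).1 h0
      rw [Subsingleton.elim y 0, map_zero]
    exact ⟨fun x y ↦ by rw [h2 x, h2 y]⟩

open scoped nonZeroDivisors in
/-- A family of functions whose differentials form a basis at a point gives formally etale
coordinates there. -/
theorem bijective_mapBaseChange_atPrime (k R : Type u) [CommRing k] [CommRing R] [Algebra k R]
    [Algebra.FinitePresentation k R] (m : Ideal R) [m.IsMaximal] [Algebra.IsSmoothAt k m]
    {d : ℕ} [Algebra (MvPolynomial (Fin d) k) R] [IsScalarTower k (MvPolynomial (Fin d) k) R]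
    (hspan : Submodule.span R (Set.range fun i : Fin d ↦
        D k R (algebraMap (MvPolynomial (Fin d) k) R (.X i))) ⊔ m • ⊤ = ⊤)
    (hind : ∀ r : Fin d → R,
        ∑ i, r i • D k R (algebraMap (MvPolynomial (Fin d) k) R (.X i)) ∈ (m • ⊤ : Submodule R Ω[R⁄k]) →
        ∀ i, r i ∈ m) :
    Function.Bijective (mapBaseChange k (MvPolynomial (Fin d) k) (Localization.AtPrime m)) := by
  let S := Localization.AtPrime m
  let P := MvPolynomial (Fin d) k
  let w : Fin d → Ω[R⁄k] := fun i ↦ D k R (algebraMap P R (.X i))
  let c : Ω[R⁄k] →ₗ[R] Ω[S⁄k] := map k k R S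
  let b : Module.Basis (Fin d) S (S ⊗[P] Ω[P⁄k]) := (mvPolynomialBasis k (Fin d)).baseChange S
  have hb : ∀ i, mapBaseChange k P S (b i) = c (w i) := fun i ↦ by
    simp [b, c, w, S, P, ← IsScalarTower.algebraMap_apply]
  let e : (Fin d → S) →ₗ[S] Ω[S⁄k] := Fintype.linearCombination S fun i ↦ c (w i)
  have he : Function.Bijective e → Function.Bijective (mapBaseChange k P S) := fun H ↦ by
    have : (mapBaseChange k P S).comp b.equivFun.symm.toLinearMap = e := by
      refine LinearMap.ext fun x ↦ ?_
      simp [e, Fintype.linearCombination_apply, Module.Basis.equivFun_symm_apply, hb]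
    rw [← this, LinearMap.coe_comp, LinearEquiv.coe_coe] at H
    exact (Function.Bijective.of_comp_iff _ b.equivFun.symm.bijective).1 H
  apply he
  have hjac : IsLocalRing.maximalIdeal S = m.map (algebraMap R S) :=
    (Localization.AtPrime.map_eq_maximalIdeal).symm
  have hloc : IsLocalizedModule m.primeCompl c := inferInstance
  -- surjectivity
  have hsur : Function.Surjective e := by
    rw [← LinearMap.range_eq_top, Fintype.range_linearCombination]
    set N := Submodule.span S (Set.range fun i ↦ c (w i))
    have hN : ∀ x : Ω[R⁄k], c x ∈ N ⊔ IsLocalRing.maximalIdeal S • ⊤ := fun x ↦ by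
      have hx : x ∈ Submodule.span R (Set.range w) ⊔ m • ⊤ := by rw [hspan]; exact trivial
      obtain ⟨y, hy, z, hz, rfl⟩ := Submodule.mem_sup.1 hx
      rw [map_add]
      refine Submodule.add_mem_sup ?_ ?_
      · have : c y ∈ (Submodule.span R (Set.range w)).map c := ⟨y, hy, rfl⟩
        rw [Submodule.map_span, ← Set.range_comp] at this
        exact Submodule.span_le_restrictScalars R S _ this
      · refine Submodule.smul_induction_on hz (fun r hr n _ ↦ ?_) fun _ _ ↦ by
          rw [map_add]; exact Submodule.add_mem _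
        rw [map_smul, ← IsScalarTower.algebraMap_smul S r (c n)]
        have hr' : algebraMap R S r ∈ IsLocalRing.maximalIdeal S := by
          rw [hjac]; exact Ideal.mem_map_of_mem _ hr
        exact Submodule.smul_mem_smul hr' (Submodule.mem_top (R := S))
    apply top_le_iff.1
    apply Submodule.le_of_le_smul_of_le_jacobson_bot (Module.Finite.fg_top)
      (IsLocalRing.maximalIdeal_le_jacobson (⊥ : Ideal S))
    intro x _
    obtain ⟨⟨y, s⟩, rfl⟩ := IsLocalizedModule.mk'_surjective m.primeCompl c x
    obtain ⟨t, ht⟩ := IsLocalization.map_units (M := m.primeCompl) S s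
    have e1 : (IsLocalizedModule.mk' c y s) = (↑t⁻¹ : S) • c y := by
      rw [eq_comm, ← IsLocalizedModule.mk'_cancel' (S := m.primeCompl) c y s, Submonoid.smul_def,
        ← IsScalarTower.algebraMap_smul S (s : R), smul_smul, ← ht, Units.inv_mul, one_smul]
    change IsLocalizedModule.mk' c y s ∈ _
    rw [e1]
    exact Submodule.smul_mem _ _ (hN y)
  refine ⟨?_, hsur⟩
  -- kernel
  obtain ⟨σ, hσ⟩ := Module.projective_lifting_property e LinearMap.id hsur
  have hker : ∀ x, e x = 0 → ∀ i, x i ∈ IsLocalRing.maximalIdeal S := by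
    intro x hx i
    obtain ⟨s, hs⟩ := IsLocalization.exist_integer_multiples_of_finite m.primeCompl x
    choose r hr using hs
    have hxs : c (∑ j, r j • w j) = 0 := by
      have : c (∑ j, r j • w j) = (s : R) • e x := by
        simp only [e, Fintype.linearCombination_apply, map_sum, map_smul, Finset.smul_sum]
        refine Finset.sum_congr rfl fun j _ ↦ ?_
        rw [← smul_assoc, ← hr j, IsScalarTower.algebraMap_smul]
      rw [this, hx, smul_zero]
    obtain ⟨t, ht⟩ := (IsLocalizedModule.eq_zero_iff m.primeCompl c).1 hxs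
    have hz := hind (fun j ↦ (t : R) * r j) (by
      simp only [mul_smul, ← Finset.smul_sum]
      rw [Submonoid.smul_def] at ht
      change (t : R) • ∑ j, r j • w j ∈ _
      rw [ht]
      exact zero_mem _) i
    have hri : r i ∈ m := (Ideal.IsPrime.mem_or_mem inferInstance hz).resolve_left t.2
    have hmem : algebraMap R S (r i) ∈ IsLocalRing.maximalIdeal S :=
      hjac ▸ Ideal.mem_map_of_mem _ hri
    have hr' : algebraMap R S (r i) = (s : R) • x i := hr i
    rw [hr', Algebra.smul_def] at hmem
    exact ((IsLocalRing.maximalIdeal.isMaximal S).isPrime.mem_or_mem hmem).resolve_left fun h ↦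
      (IsLocalRing.mem_maximalIdeal _).1 h (IsLocalization.map_units (M := m.primeCompl) S s)
  let p : (Fin d → S) →ₗ[S] (Fin d → S) := LinearMap.id - σ.comp e
  have hep : ∀ x, e (p x) = 0 := fun x ↦ by
    have := LinearMap.congr_fun hσ (e x)
    simp only [LinearMap.comp_apply, LinearMap.id_apply] at this
    simp [p, this]
  have hK : LinearMap.range p ≤ IsLocalRing.maximalIdeal S • LinearMap.range p := by
    rintro _ ⟨x, rfl⟩
    have hpp : p (p x) = p x := by
      simp only [p, LinearMap.sub_apply, LinearMap.id_apply, LinearMap.comp_apply]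
      rw [show e (x - σ (e x)) = 0 by simpa [p] using hep x, map_zero, sub_zero]
    have hexp : p (p x) = ∑ j, (p x) j • p (Pi.single j 1) := by
      conv_lhs => rw [show p x = ∑ j, (p x) j • Pi.single j (1 : S) from by
        funext i; simp [Finset.sum_apply, Pi.single_apply]]
      rw [map_sum]; simp
    rw [← hpp, hexp]
    exact Submodule.sum_mem _ fun j _ ↦
      Submodule.smul_mem_smul (hker _ (hep x) j) ⟨_, rfl⟩
  have hp0 : LinearMap.range p = ⊥ :=
    Submodule.eq_bot_of_le_smul_of_le_jacobson_bot _ _
      (LinearMap.range_eq_map p ▸ Submodule.FG.map p Module.Finite.fg_top) hK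
      (IsLocalRing.maximalIdeal_le_jacobson _)
  intro x y hxy
  have h1 : p (x - y) = 0 := by
    have : p (x - y) ∈ LinearMap.range p := ⟨_, rfl⟩
    rw [hp0] at this
    exact (Submodule.mem_bot S).1 this
  have h2 : e (x - y) = 0 := by rw [map_sub, hxy, sub_self]
  simp only [p, LinearMap.sub_apply, LinearMap.id_apply, LinearMap.comp_apply, h2, map_zero,
    sub_zero] at h1
  exact sub_eq_zero.1 h1

end Groth.Agent.H83.EtaleCriterion
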