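import Groth.Prelude.Def_RedSub
import Mathlib.AlgebraicGeometry.Sites.Fpqc
import Mathlib.AlgebraicGeometry.Morphisms.FlatDescent
import Mathlib.AlgebraicGeometry.Morphisms.LocalFlatDescent

/-! fppf coverings in `Over S`, descent of morphisms, point API for `RedSub.IsQuotient`. -/

set_option autoImplicit false
universe u
open CategoryTheory CategoryTheory.Limits AlgebraicGeometry MonoidalCategory
open CartesianMonoidalCategory MonObj GrpObj

namespace Groth.Agent.H83.Fppf

instance lfpZariskiTarget : IsZariskiLocalAtTarget (@LocallyOfFinitePresentation.{u}) :=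
  HasRingHomProperty.instIsZariskiLocalAtTarget (P := @LocallyOfFinitePresentation.{u})
    (Q := @RingHom.FinitePresentation)

variable {S : Scheme.{u}}

instance lfpDescendsFppf : MorphismProperty.DescendsAlong (@LocallyOfFinitePresentation.{u})
    (@Surjective.{u} ⊓ @Flat.{u} ⊓ @LocallyOfFinitePresentation.{u}) :=
  instDescendsAlongSchemeMinMorphismPropertySurjectiveFlatLocallyOfFinitePresentationOfQuasiCompactOfIsZariskiLocalAtTarget
    (@LocallyOfFinitePresentation.{u})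

/-- fppf covering morphism in `Over S`. -/
def IsCov {X Y : Over S} (f : X ⟶ Y) : Prop :=
  Surjective f.left ∧ Flat f.left ∧ LocallyOfFinitePresentation f.left

theorem IsCov.prop {X Y : Over S} {f : X ⟶ Y} (hf : IsCov f) :
    (@Surjective ⊓ @Flat ⊓ @LocallyOfFinitePresentation : MorphismProperty Scheme.{u}) f.left :=
  ⟨⟨hf.1, hf.2.1⟩, hf.2.2⟩

theorem IsCov.effectiveEpi {X Y : Over S} {f : X ⟶ Y} (hf : IsCov f) : EffectiveEpi f.left := by
  obtain ⟨h1, h2, h3⟩ := hf
  infer_instance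

theorem IsCov.epi {X Y : Over S} {f : X ⟶ Y} (hf : IsCov f) : Epi f := by
  have := hf.effectiveEpi
  constructor
  intro Z a b h
  ext1
  rw [← cancel_epi f.left]
  exact congr_arg CommaMorphism.left h

theorem IsCov.cancel {X Y Z : Over S} {f : X ⟶ Y} (hf : IsCov f) {a b : Y ⟶ Z}
    (h : f ≫ a = f ≫ b) : a = b := by
  have := hf.epi
  exact (cancel_epi f).1 h

theorem IsCov.exists_desc {X Y Z : Over S} {f : X ⟶ Y} (hf : IsCov f) (g : X ⟶ Z)
    (h : ∀ (T : Over S) (a b : T ⟶ X), a ≫ f = b ≫ f → a ≫ g = b ≫ g) :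
    ∃ k : Y ⟶ Z, f ≫ k = g := by
  have := hf.effectiveEpi
  have hh : ∀ {T : Scheme.{u}} (a b : T ⟶ X.left), a ≫ f.left = b ≫ f.left →
      a ≫ g.left = b ≫ g.left := by
    intro T a b e
    have eb : b ≫ X.hom = a ≫ X.hom := by
      rw [← Over.w f, ← Category.assoc, ← e, Category.assoc]
    have := h (Over.mk (a ≫ X.hom)) (Over.homMk a rfl) (Over.homMk b eb) (Over.OverMorphism.ext e)
    exact congr_arg CommaMorphism.left this
  refine ⟨Over.homMk (EffectiveEpi.desc f.left g.left hh) ?_,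
    Over.OverMorphism.ext (EffectiveEpi.fac f.left g.left hh)⟩
  rw [← cancel_epi f.left, EffectiveEpi.fac_assoc, Over.w g, Over.w f]

theorem IsCov.comp {X Y Z : Over S} {f : X ⟶ Y} {g : Y ⟶ Z} (hf : IsCov f) (hg : IsCov g) :
    IsCov (f ≫ g) := by
  obtain ⟨h1, h2, h3⟩ := hf
  obtain ⟨g1, g2, g3⟩ := hg
  refine ⟨?_, ?_, ?_⟩ <;> · rw [Over.comp_left]; infer_instance

theorem isCov_id (X : Over S) : IsCov (𝟙 X) := by
  refine ⟨?_, ?_, ?_⟩ <;> · rw [Over.id_left]; infer_instance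

theorem IsCov.tensor {X Y X' Y' : Over S} {f : X ⟶ Y} {g : X' ⟶ Y'} (hf : IsCov f)
    (hg : IsCov g) : IsCov (f ⊗ₘ g) := by
  obtain ⟨h1, h2, h3⟩ := hf
  obtain ⟨g1, g2, g3⟩ := hg
  refine ⟨?_, ?_, ?_⟩ <;> rw [Over.tensorHom_left]
  · have : MorphismProperty.IsStableUnderComposition @Surjective.{u} := ⟨fun _ _ hf hg ↦ by
      have := hf; have := hg; infer_instance⟩
    exact MorphismProperty.pullbackMap (P := @Surjective.{u}) h1 g1 (Over.w f).symm (Over.w g).symm
  · exact MorphismProperty.pullbackMap (P := @Flat.{u}) h2 g2 (Over.w f).symm (Over.w g).symm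
  · exact MorphismProperty.pullbackMap (P := @LocallyOfFinitePresentation.{u}) h3 g3 (Over.w f).symm (Over.w g).symm

theorem IsCov.whiskerLeft {X Y : Over S} {f : X ⟶ Y} (Z : Over S) (hf : IsCov f) :
    IsCov (Z ◁ f) := by
  rw [← id_tensorHom]
  exact (isCov_id Z).tensor hf

theorem IsCov.whiskerRight {X Y : Over S} {f : X ⟶ Y} (Z : Over S) (hf : IsCov f) :
    IsCov (f ▷ Z) := by
  rw [← tensorHom_id]
  exact hf.tensor (isCov_id Z)

/-- A point factors through a monomorphism if it does so on a covering. -/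
theorem IsCov.exists_factor_mono {X Y A B : Over S} {f : X ⟶ Y} (hf : IsCov f) (t : A ⟶ B)
    [Mono t] (y : Y ⟶ B) (z : X ⟶ A) (h : z ≫ t = f ≫ y) : ∃ w : Y ⟶ A, w ≫ t = y := by
  obtain ⟨w, hw⟩ := hf.exists_desc z fun T a b e ↦ by
    rw [← cancel_mono t, Category.assoc, Category.assoc, h, reassoc_of% e]
  exact ⟨w, hf.cancel (by rw [reassoc_of% hw, h])⟩

/-- A point of the target of a covering lifts to the source on a covering. -/
theorem IsCov.exists_lift {X Y Z : Over S} {f : X ⟶ Y} (hf : IsCov f) (a : Z ⟶ Y) :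
    ∃ (Z' : Over S) (p : Z' ⟶ Z) (a' : Z' ⟶ X), IsCov p ∧ a' ≫ f = p ≫ a := by
  refine ⟨Over.mk (pullback.fst a.left f.left ≫ Z.hom), Over.homMk (pullback.fst a.left f.left) rfl,
    Over.homMk (pullback.snd a.left f.left) ?_, ?_, ?_⟩
  · dsimp only [Over.mk_hom]
    rw [← Over.w f, ← pullback.condition_assoc, Over.w a]
  · obtain ⟨h1, h2, h3⟩ := hf
    exact ⟨MorphismProperty.pullback_fst (P := @Surjective.{u}) a.left f.left h1,
      MorphismProperty.pullback_fst (P := @Flat.{u}) a.left f.left h2,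
      MorphismProperty.pullback_fst (P := @LocallyOfFinitePresentation.{u}) a.left f.left h3⟩
  · ext1
    exact pullback.condition.symm

/-- Being a covering can be read off a cartesian square over a covering. -/
theorem IsCov.lfp_of_isPullback {P X Y Z : Over S} {a : P ⟶ X} {b : P ⟶ Y} {f : X ⟶ Z}
    {g : Y ⟶ Z} (hf : IsCov f) (sq : IsPullback a b f g) (h : LocallyOfFinitePresentation a.left) :
    LocallyOfFinitePresentation g.left :=
  MorphismProperty.of_isPullback_of_descendsAlong (P := @LocallyOfFinitePresentation.{u})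
    (sq.map (Over.forget S)) hf.prop h

/-- A square is cartesian as soon as it is so on points. -/
theorem isPullback_of_points {P X Y Z : Over S} {a : P ⟶ X} {b : P ⟶ Y} {f : X ⟶ Z} {g : Y ⟶ Z}
    (w : a ≫ f = b ≫ g)
    (h : ∀ (T : Over S) (x : T ⟶ X) (y : T ⟶ Y), x ≫ f = y ≫ g →
      ∃! p : T ⟶ P, p ≫ a = x ∧ p ≫ b = y) : IsPullback a b f g :=
  IsPullback.of_isLimit' ⟨w⟩ (PullbackCone.IsLimit.mk w
    (fun s ↦ (h _ s.fst s.snd s.condition).exists.choose)
    (fun s ↦ (h _ s.fst s.snd s.condition).exists.choose_spec.1)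
    (fun s ↦ (h _ s.fst s.snd s.condition).exists.choose_spec.2)
    (fun s m h1 h2 ↦ (h _ s.fst s.snd s.condition).unique ⟨h1, h2⟩
      (h _ s.fst s.snd s.condition).exists.choose_spec))

section Quot

variable {H G Q : Over S} [GrpObj G] {i : H ⟶ G} {q : G ⟶ Q}

theorem isCov_of_isQuotient [GrpObj H] (hq : RedSub.IsQuotient i q) : IsCov q :=
  ⟨hq.1, hq.2.1, hq.2.2.1⟩

theorem eq_of_translate [GrpObj H] (hq : RedSub.IsQuotient i q) {T : Over S} (g : T ⟶ G)
    (h : T ⟶ H) : (g * (h ≫ i)) ≫ q = g ≫ q := by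
  have hw := congr_arg (lift g h ≫ ·) hq.2.2.2.w
  simp only [lift_fst_assoc, Category.assoc, lift_whiskerLeft_assoc] at hw
  rw [Hom.mul_def, Category.assoc]
  exact hw.symm

theorem exists_translate [GrpObj H] (hq : RedSub.IsQuotient i q) {T : Over S} {g g' : T ⟶ G}
    (e : g ≫ q = g' ≫ q) : ∃ h : T ⟶ H, g' = g * (h ≫ i) := by
  refine ⟨hq.2.2.2.lift g g' e ≫ snd _ _, ?_⟩
  have h1 : hq.2.2.2.lift g g' e ≫ fst _ _ = g := hq.2.2.2.lift_fst g g' e
  have h2 := hq.2.2.2.lift_snd g g' e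
  have h3 : hq.2.2.2.lift g g' e = lift g (hq.2.2.2.lift g g' e ≫ snd _ _) :=
    CartesianMonoidalCategory.hom_ext _ _ (by rw [lift_fst, h1]) (by rw [lift_snd])
  rw [h3, lift_whiskerLeft_assoc] at h2
  rw [Hom.mul_def]
  exact h2.symm

/-- a morphism constant on cosets descends to the quotient -/
theorem exists_desc_quotient [GrpObj H] (hq : RedSub.IsQuotient i q) {Z : Over S} (f : G ⟶ Z)
    (hf : ∀ (T : Over S) (g : T ⟶ G) (h : T ⟶ H), (g * (h ≫ i)) ≫ f = g ≫ f) :
    ∃ k : Q ⟶ Z, q ≫ k = f := by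
  refine (isCov_of_isQuotient hq).exists_desc f fun T a b e ↦ ?_
  obtain ⟨h, rfl⟩ := exists_translate hq e
  exact (hf T a h).symm

end Quot

end Groth.Agent.H83.Fppf
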