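import Groth.Agent.Lib.Gen43.Glue
import Groth.Agent.Lib.Perfect.OfCohomology

/-!
# Factoring maps from perfect objects to supported ones through supported perfect objects
-/

set_option autoImplicit false
set_option linter.style.haveILetI false
set_option linter.unusedSectionVars false

universe u

open CategoryTheory CategoryTheory.Limits CategoryTheory.Pretriangulated AlgebraicGeometry

attribute [local instance] HasDerivedCategory.standard

namespace Groth.Agent.H83.FactorGlobal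

open Groth.Agent.Lib Groth.Agent.Lib.DerivedOX Groth.Agent.Lib.Gen43 Groth.Agent.Lib.Gen43.Restrict

attribute [local irreducible] Gen43.Restrict.Van

variable {X : Scheme.{u}} (U : X.Opens)

/-- The cone is perfect and vanishes on `U`. -/
def GoodMap {W C : DCoh.D X} (g : W ⟶ C) : Prop :=
  ∃ (Z : DCoh.D X) (h : C ⟶ Z) (δ : Z ⟶ W⟦(1 : ℤ)⟧),
    Triangle.mk g h δ ∈ distTriang (DCoh.D X) ∧ DCoh.IsPerfect Z ∧ Van U Z

variable {U}

lemma goodMap_id (W : DCoh.D X) : GoodMap U (𝟙 W) := by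
  obtain ⟨Z, h, δ, hT⟩ := distinguished_cocone_triangle (𝟙 W)
  have hz : IsZero Z := (Triangle.isZero₃_iff_isIso₁ _ hT).2 (inferInstanceAs (IsIso (𝟙 W)))
  exact ⟨Z, h, δ, hT, Perfect.OfCohomology.isPerfect_of_isZero hz,
    van_of_isZero ((DCoh.restrictD U.ι).map_isZero hz)⟩

lemma GoodMap.comp {W C C' : DCoh.D X} {g : W ⟶ C} {g' : C ⟶ C'} (hg : GoodMap U g)
    (hg' : GoodMap U g') : GoodMap U (g ≫ g') := by
  obtain ⟨Z₁, h₁, δ₁, hT₁, hp₁, hv₁⟩ := hg
  obtain ⟨Z₂, h₂, δ₂, hT₂, hp₂, hv₂⟩ := hg'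
  obtain ⟨Z, h, δ, hT⟩ := distinguished_cocone_triangle (g ≫ g')
  have o := Triangulated.someOctahedron rfl hT₁ hT₂ hT
  exact ⟨Z, h, δ, hT, Perfect.Triangle.isPerfect₂ o.mem hp₁ hp₂, van₂ o.mem hv₁ hv₂⟩

lemma GoodMap.van {W C : DCoh.D X} {g : W ⟶ C} (hg : GoodMap U g) (hW : Van U W) : Van U C := by
  obtain ⟨Z, h, δ, hT, -, hv⟩ := hg
  exact van₂ hT hW hv

lemma GoodMap.isQCohD {W C : DCoh.D X} {g : W ⟶ C} (hg : GoodMap U g) (hW : DCoh.IsQCohD W) :
    DCoh.IsQCohD C := by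
  obtain ⟨Z, h, δ, hT, hp, -⟩ := hg
  exact TildeEquiv.isQCohD_mor₃ _ (inv_rot_of_distTriang _ hT)
    (CompactUnit.qcD_shift _ (-1) (Perfect.QCohD.isQCohD_of_isPerfect hp)) hW

variable [CompactSpace X] [QuasiSeparatedSpace X] (hU : IsCompact (U : Set X))

include hU in
/-- A map vanishing on `S` is made to vanish on `S ⊔ V`. -/
theorem exists_step {S V : X.Opens} (hS : IsCompact (S : Set X)) (hV : IsAffineOpen V) {E W : DCoh.D X}
    (hE : DCoh.IsPerfect E) (hW : DCoh.IsQCohD W) (hWU : Van U W) (f : E ⟶ W)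
    (hf : (DCoh.restrictD S.ι).map f = 0) :
    ∃ (C : DCoh.D X) (g : W ⟶ C), GoodMap U g ∧ (DCoh.restrictD (S ⊔ V).ι).map (f ≫ g) = 0 := by
  haveI : IsAffine (V : Scheme.{u}) := hV
  haveI := quasiCompact_ι (X := X) hS
  haveI := quasiCompact_ι (X := X) hV.isCompact
  haveI := Exists.hasRpush S.ι
  haveI := Exists.hasRpush V.ι
  let η := unit S.ι W
  have h0 : f ≫ η = 0 := by
    refine ((OpenImm.restrictPushAdj S.ι).unit.naturality f).trans ?_
    simp [hf]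
  obtain ⟨W', ι, δ, hT⟩ := distinguished_cocone_triangle₁ η
  obtain ⟨(f' : E ⟶ W'), (hf' : f = f' ≫ ι)⟩ := Triangle.coyoneda_exact₂ _ hT f h0
  have hRq : DCoh.IsQCohD ((DCoh.Rpush S.ι).obj ((DCoh.restrictD S.ι).obj W)) :=
    RpushQCoh.isQCohD_Rpush S.ι _ (CompactUnit.isQCohD_restrictD _ hW)
  have hW'q : DCoh.IsQCohD W' := by
    have h1 : DCoh.IsQCohD (W'⟦(1 : ℤ)⟧) :=
      TildeEquiv.isQCohD_mor₃ _ (rot_of_distTriang _ hT) hW hRq
    have h2 := CompactUnit.qcD_shift _ (-1) h1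
    exact fun i => (WayOut.Scheme.qc X).prop_of_iso ((DerivedCategory.homologyFunctor _ i).mapIso
      ((shiftEquiv (DCoh.D X) (1 : ℤ)).unitIso.app W').symm) (h2 i)
  have hW'S : Van S W' := (isIso_restrict_iff₂ hT).1 (isIso_restrict_unit S.ι W)
  have hW'U : Van U W' :=
    van₁ hT hWU (Extend.van_push S U (Extend.van_preimage (hWU.mono inf_le_right)))
  let Ux := U ⊔ S
  have hUx : IsCompact (Ux : Set X) := by
    rw [TopologicalSpace.Opens.coe_sup]; exact hU.union hS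
  obtain ⟨Q, a, b, hab, hQ, hQv, -⟩ := Affine.exists_factor (X := (V : Scheme.{u}))
    (W := V.ι ⁻¹ᵁ Ux) (V.ι.isCompact_preimage hUx) (isPerfect_restrict V.ι hE)
    (CompactUnit.isQCohD_restrictD V.ι hW'q)
    (Extend.van_preimage ((hW'U.sup hW'S).mono inf_le_right)) ((DCoh.restrictD V.ι).map f')
  obtain ⟨R, β, i, p, hR, hRv, -, hib⟩ := Glue.exists_lift Ux hUx hV.isCompact hW'q hQ hQv b
  obtain ⟨C', g, δ', hT'⟩ := distinguished_cocone_triangle β
  have hC'S : Van S C' := van₃ hT' (hRv.mono le_sup_right) hW'S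
  have hV0 : (DCoh.restrictD V.ι).map (f' ≫ g) = 0 := by
    rw [Functor.map_comp, ← hab, ← hib, Category.assoc, Category.assoc, ← Functor.map_comp]
    have h1 : β ≫ g = 0 := comp_distTriang_mor_zero₁₂ _ hT'
    rw [h1, Functor.map_zero, comp_zero, comp_zero]
  have hZ0 : (DCoh.restrictD (S ⊔ V).ι).map (f' ≫ g) = 0 := by
    haveI := Extend.isIso_restrict_unit_of_van (V := V) (W := S ⊔ V) le_rfl hC'S
    have h1 : (f' ≫ g) ≫ unit V.ι C' = 0 := by
      refine ((OpenImm.restrictPushAdj V.ι).unit.naturality (f' ≫ g)).trans ?_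
      simp [hV0]
    apply (cancel_mono ((DCoh.restrictD (S ⊔ V).ι).map (unit V.ι C'))).1
    rw [← Functor.map_comp, h1, Functor.map_zero, zero_comp]
  obtain ⟨C, g₂, δ₂, hT₂⟩ := distinguished_cocone_triangle (β ≫ ι)
  obtain ⟨(k : C' ⟶ C), (hk : ι ≫ g₂ = g ≫ k)⟩ := Triangle.yoneda_exact₂ _ hT' (ι ≫ g₂) (by
    show β ≫ ι ≫ g₂ = 0
    exact (Category.assoc _ _ _).symm.trans (comp_distTriang_mor_zero₁₂ _ hT₂))
  refine ⟨C, g₂, ⟨_, _, _, rot_of_distTriang _ hT₂, Perfect.Triangle.isPerfect_shift hR 1,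
    (hRv.mono le_sup_left).shift 1⟩, ?_⟩
  rw [hf', Category.assoc, hk, ← Category.assoc, Functor.map_comp, hZ0, zero_comp]

include hU in
/-- A map from a perfect object to one vanishing on `U` factors through a perfect such object. -/
theorem exists_factor {E W : DCoh.D X} (hE : DCoh.IsPerfect E) (hW : DCoh.IsQCohD W) (hWU : Van U W)
    (f : E ⟶ W) :
    ∃ (Q : DCoh.D X) (a : E ⟶ Q) (b : Q ⟶ W), a ≫ b = f ∧ DCoh.IsPerfect Q ∧ Van U Q := by
  obtain ⟨C, g, hg, h0⟩ : ∃ (C : DCoh.D X) (g : W ⟶ C), GoodMap U g ∧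
      (DCoh.restrictD (⊤ : X.Opens).ι).map (f ≫ g) = 0 := by
    refine compact_open_induction_on (P := fun S : X.Opens => ∃ (C : DCoh.D X) (g : W ⟶ C),
      GoodMap U g ∧ (DCoh.restrictD S.ι).map (f ≫ g) = 0) ⊤ isCompact_univ ?_ ?_
    · exact ⟨W, 𝟙 W, goodMap_id W, (van_bot W).isZero.eq_of_tgt _ _⟩
    · rintro S hS V ⟨C, g, hg, h0⟩
      obtain ⟨C', g', hg', h1⟩ := exists_step hU hS V.2 hE (hg.isQCohD hW) (hg.van hWU) (f ≫ g) h0
      exact ⟨C', g ≫ g', hg.comp hg', by rwa [← Category.assoc]⟩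
  haveI : IsIso (⊤ : X.Opens).ι := by
    rw [← Scheme.topIso_hom]; infer_instance
  have hfg : f ≫ g = 0 := (DCoh.restrictD (⊤ : X.Opens).ι).map_injective (h0.trans (Functor.map_zero _ _ _).symm)
  obtain ⟨Z, h, δ, hT, hp, hv⟩ := hg
  obtain ⟨a, ha⟩ := Triangle.coyoneda_exact₂ _ (inv_rot_of_distTriang _ hT) f hfg
  exact ⟨_, a, _, ha.symm, Perfect.Triangle.isPerfect_shift hp (-1), hv.shift (-1)⟩

end Groth.Agent.H83.FactorGlobal
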