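import Groth.Prelude.Def_RedSub
import Groth.Agent.Lib.RootDatum.Weyl

/-!
# Bridge between `RedSub` root combinatorics, bases of root pairings and the `RootD` library
-/

namespace Groth.Agent.H83.RootBridge

open Set Function Groth.Agent.Lib.RootDatum Groth.Agent.Lib.RootDatum.Basic
  Groth.Agent.Lib.RootDatum.PosSys Groth.Agent.Lib.RootDatum.Weyl

variable {idx M N : Type} [AddCommGroup M] [AddCommGroup N] (P : RootPairing idx ℤ M N)

theorem isSimpleSys (b : P.Base) : RootD.IsSimpleSys P (b.support : Set idx) :=
  ⟨b.linearIndepOn_root, b.root_mem_or_neg_mem⟩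

theorem posRoots_eq (b : P.Base) : RedSub.posRoots P b = RootD.posOf P (b.support : Set idx) := rfl

theorem isPosSys [Finite idx] (b : P.Base) : RootD.IsPosSys P (RedSub.posRoots P b) :=
  isPosSys_posOf (isSimpleSys P b)

theorem mem_negRoots_iff (b : P.Base) (a : idx) :
    a ∈ RedSub.negRoots P b ↔ negIdx P a ∈ RedSub.posRoots P b := by
  simp only [RedSub.negRoots, RedSub.posRoots, Set.mem_ofPred_eq, root_negIdx]

theorem mem_negRoots_iff_notMem [Finite idx] (b : P.Base) (a : idx) :
    a ∈ RedSub.negRoots P b ↔ a ∉ RedSub.posRoots P b := by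
  rw [mem_negRoots_iff, not_mem_iff P (isPosSys P b)]

theorem wordPerm_apply (l : List idx) (a : idx) :
    RedSub.wordPerm P l a = wordProd P l • a := by
  induction l generalizing a with
  | nil => simp [RedSub.wordPerm, wordProd]
  | cons c l ih =>
    have h1 : RedSub.wordPerm P (c :: l) = P.reflectionPerm c * RedSub.wordPerm P l := by
      simp [RedSub.wordPerm]
    have h2 : wordProd P (c :: l) = refl P c * wordProd P l := by simp [wordProd]
    rw [h1, h2, mul_smul, Equiv.Perm.mul_apply, ih]
    rfl

theorem wordPerm_symm_apply (l : List idx) (a : idx) :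
    (RedSub.wordPerm P l).symm a = (wordProd P l)⁻¹ • a := by
  rw [Equiv.symm_apply_eq, wordPerm_apply, smul_inv_smul]

theorem coroot_smul (g : P.Aut) (i : idx) :
    P.coroot (g • i) = (RootPairing.Equiv.coweightEquiv P P g).symm (P.coroot i) := by
  rw [LinearEquiv.eq_symm_apply, RootPairing.Equiv.coweightEquiv_apply,
    RootPairing.Hom.coroot_coweightMap_apply]
  exact congrArg P.coroot (g.toHom.indexEquiv.symm_apply_apply i)

/-- The image of a base under an automorphism. -/
theorem exists_base_smul (g : P.Aut) (b : P.Base) :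
    ∃ b' : P.Base, RedSub.posRoots P b' = (fun i : idx => g • i) '' RedSub.posRoots P b := by
  classical
  set e : idx → idx := fun i => g • i with he
  have hinj : Injective e := MulAction.injective g
  let L : M ≃ₗ[ℤ] M := RootPairing.Equiv.weightHom P g
  let T : N ≃ₗ[ℤ] N := (RootPairing.Equiv.coweightEquiv P P g).symm
  have hL : ∀ i, P.root (e i) = L (P.root i) := fun i => root_smul P g i
  have hT : ∀ i, P.coroot (e i) = T (P.coroot i) := fun i => coroot_smul P g i
  have himg : P.root '' (e '' (b.support : Set idx)) = L '' (P.root '' b.support) := by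
    rw [image_image, image_image]
    exact image_congr fun i _ => hL i
  have himg' : P.coroot '' (e '' (b.support : Set idx)) = T '' (P.coroot '' b.support) := by
    rw [image_image, image_image]
    exact image_congr fun i _ => hT i
  have hclR : ∀ x, L x ∈ AddSubmonoid.closure (L '' (P.root '' (b.support : Set idx))) ↔
      x ∈ AddSubmonoid.closure (P.root '' (b.support : Set idx)) := fun x => by
    rw [show ⇑L = ⇑L.toLinearMap.toAddMonoidHom from rfl, ← AddMonoidHom.map_mclosure]
    exact AddSubmonoid.mem_map_iff_mem L.injective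
  have hclC : ∀ x, T x ∈ AddSubmonoid.closure (T '' (P.coroot '' (b.support : Set idx))) ↔
      x ∈ AddSubmonoid.closure (P.coroot '' (b.support : Set idx)) := fun x => by
    rw [show ⇑T = ⇑T.toLinearMap.toAddMonoidHom from rfl, ← AddMonoidHom.map_mclosure]
    exact AddSubmonoid.mem_map_iff_mem T.injective
  refine ⟨{ support := b.support.image e, linearIndepOn_root := ?_, linearIndepOn_coroot := ?_,
            root_mem_or_neg_mem := ?_, coroot_mem_or_neg_mem := ?_ }, ?_⟩
  · rw [Finset.coe_image]
    refine LinearIndepOn.image_of_comp e P.root ?_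
    rw [show ⇑P.root ∘ e = ⇑L.toLinearMap ∘ ⇑P.root from funext hL]
    exact b.linearIndepOn_root.map_injOn L.toLinearMap (L.injective.injOn)
  · rw [Finset.coe_image]
    refine LinearIndepOn.image_of_comp e P.coroot ?_
    rw [show ⇑P.coroot ∘ e = ⇑T.toLinearMap ∘ ⇑P.coroot from funext hT]
    exact b.linearIndepOn_coroot.map_injOn T.toLinearMap (T.injective.injOn)
  · intro i
    obtain ⟨j, rfl⟩ := (MulAction.bijective g).surjective i
    rw [Finset.coe_image, himg, show P.root (g • j) = L (P.root j) from hL j, ← map_neg, hclR, hclR]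
    exact b.root_mem_or_neg_mem j
  · intro i
    obtain ⟨j, rfl⟩ := (MulAction.bijective g).surjective i
    rw [Finset.coe_image, himg', show P.coroot (g • j) = T (P.coroot j) from hT j, ← map_neg, hclC,
      hclC]
    exact b.coroot_mem_or_neg_mem j
  · ext i
    obtain ⟨j, rfl⟩ : ∃ j, e j = i := (MulAction.bijective g).surjective i
    rw [hinj.mem_set_image]
    show P.root (e j) ∈ AddSubmonoid.closure (P.root '' ↑(b.support.image e)) ↔ _
    rw [Finset.coe_image, himg, hL, hclR]
    rfl

end Groth.Agent.H83.RootBridge
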